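import Cfsg.Agent.Comp.F3.S7.Pres

set_option autoImplicit false
set_option maxRecDepth 100000

namespace Cfsg.Agent.Comp.F3.S7
open Cfsg.Agent.Comp

noncomputable def n0 : Net :=
(Net.cons (nat_lit 0x1) (nat_lit 1)
Net.nil)

noncomputable def n1 : Net :=
(Net.cons (nat_lit 0x2) (nat_lit 2)
(Net.cons (nat_lit 0x4) (nat_lit 1)
(Net.cons (nat_lit 0x2) (nat_lit 2)
Net.nil)))

noncomputable def n2 : Net :=
(Net.cons (nat_lit 0x4) (nat_lit 1)
Net.nil)

noncomputable def n3 : Net :=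
(Net.cons (nat_lit 0x1) (nat_lit 4)
(Net.cons (nat_lit 0x2) (nat_lit 2)
(Net.cons (nat_lit 0x1) (nat_lit 1)
(Net.cons (nat_lit 0x2) (nat_lit 2)
(Net.cons (nat_lit 0x1) (nat_lit 4)
Net.nil)))))

noncomputable def n4 : Net :=
(Net.cons (nat_lit 0x10) (nat_lit 1)
Net.nil)

noncomputable def n5 : Net :=
(Net.cons (nat_lit 0x10) (nat_lit 2)
(Net.cons (nat_lit 0x10) (nat_lit 1)
(Net.cons (nat_lit 0x10) (nat_lit 2)
Net.nil)))

noncomputable def T : List Net := [n0, n1, n2, n3, n4, n5]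

theorem ok : TOK 7 T := TOK_of_ok (by decide +kernel)

theorem sat : Sat (sig T) R :=
  sat_of_relsP ok (by norm_num) (show relsP (nat_lit 7) (nat_lit 3) (nat_lit 0) (nat_lit 3) T R = true by decide +kernel)

theorem satD : Sat (sig T) D :=
  sat_of_relsP ok (by norm_num) (show relsP (nat_lit 7) (nat_lit 3) (nat_lit 0) (nat_lit 3) T D = true by decide +kernel)

def E : List (List Nat × List Nat) :=
  []

theorem eqs : ∀ e ∈ E, ev (sig T) e.1 = ev (sig T) e.2 := eqs_nil _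

def lowW1 : List (List Nat) := [[1],
   [2],
   [3],
   [4],
   [5]]

def lowW2 : List (List Nat) := [[2],
   [3],
   [4],
   [5]]

def lowW3 : List (List Nat) := [[3],
   [4],
   [5]]

def lowW4 : List (List Nat) := [[4],
   [5]]

def lowW5 : List (List Nat) := [[5]]

theorem low_5 : 2 ≤ Nat.card (genW (sig T) lowW5) :=
  chain_step (W' := []) (b := 5) (n := 2) (m := 1) ok (le_of_subOK eqs (show subOK lowW5 [] E = true by decide +kernel)) (by decide +kernel)
    (le_ncard_of_ivl (a := 5) ok (by norm_num) (show Nat.beq (grow T lowW5 [0] (pt (nat_lit 5))) (ivl (nat_lit 5) (nat_lit 2)) = true by decide +kernel))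
    (chain_base ok [])

theorem low_4 : 6 ≤ Nat.card (genW (sig T) lowW4) :=
  chain_step (W' := lowW5) (b := 4) (n := 3) (m := 2) ok (le_of_subOK eqs (show subOK lowW4 lowW5 E = true by decide +kernel)) (by decide +kernel)
    (le_ncard_of_ivl (a := 4) ok (by norm_num) (show Nat.beq (grow T lowW4 [0, 1] (pt (nat_lit 4))) (ivl (nat_lit 4) (nat_lit 3)) = true by decide +kernel))
    low_5

theorem low_3 : 24 ≤ Nat.card (genW (sig T) lowW3) :=
  chain_step (W' := lowW4) (b := 3) (n := 4) (m := 6) ok (le_of_subOK eqs (show subOK lowW3 lowW4 E = true by decide +kernel)) (by decide +kernel)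
    (le_ncard_of_ivl (a := 3) ok (by norm_num) (show Nat.beq (grow T lowW3 [0, 1, 2] (pt (nat_lit 3))) (ivl (nat_lit 3) (nat_lit 4)) = true by decide +kernel))
    low_4

theorem low_2 : 120 ≤ Nat.card (genW (sig T) lowW2) :=
  chain_step (W' := lowW3) (b := 2) (n := 5) (m := 24) ok (le_of_subOK eqs (show subOK lowW2 lowW3 E = true by decide +kernel)) (by decide +kernel)
    (le_ncard_of_ivl (a := 2) ok (by norm_num) (show Nat.beq (grow T lowW2 [0, 1, 2, 3] (pt (nat_lit 2))) (ivl (nat_lit 2) (nat_lit 5)) = true by decide +kernel))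
    low_3

theorem low_1 : 720 ≤ Nat.card (genW (sig T) lowW1) :=
  chain_step (W' := lowW2) (b := 1) (n := 6) (m := 120) ok (le_of_subOK eqs (show subOK lowW1 lowW2 E = true by decide +kernel)) (by decide +kernel)
    (le_ncard_of_ivl (a := 1) ok (by norm_num) (show Nat.beq (grow T lowW1 [0, 1, 2, 3, 4] (pt (nat_lit 1))) (ivl (nat_lit 1) (nat_lit 6)) = true by decide +kernel))
    low_2

theorem low : 5040 ≤ Nat.card (genW (sig T) (letters 6)) :=
  chain_step (W' := lowW1) (b := 0) (n := 7) (m := 720) ok (le_of_subOK eqs (show subOK (letters 6) lowW1 E = true by decide +kernel)) (by decide +kernel)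
    (le_ncard_of_ivl (a := 0) ok (by norm_num) (show Nat.beq (grow T (letters 6) [0, 1, 2, 3, 4, 5] (pt (nat_lit 0))) (ivl (nat_lit 0) (nat_lit 7)) = true by decide +kernel))
    low_1

namespace Tc5

noncomputable def t0 : Tr := (Tr.leaf (nat_lit 0x1fffff800fffffc007ffffe003fffff001fffff800fffffc007ffffe003fffff001fffff800fffffc007ffffe003fffff001fffff800fffffe087ff020003ff831))

noncomputable def T : Tr := t0

def RT : List (List (List Nat)) := [
  [],
  []]

def HT : List (List (Nat × Nat × Nat)) := [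
  [],
  []]

def R : List (List Nat) :=
  [[0, 0]]

def W : List (List Nat) := []

noncomputable def P : Par := ⟨T, (nat_lit 4), (nat_lit 15), (nat_lit 33), (nat_lit 11), (nat_lit 2047), (nat_lit 5), (nat_lit 31), (nat_lit 1), (nat_lit 18), (nat_lit 32), (nat_lit 0x820), RT⟩

noncomputable def J0 : List Nat := [
  nat_lit 0x69249249249249249249249]

theorem c0 : chk T (nat_lit 4) (nat_lit 15) (nat_lit 33) (nat_lit 11) (nat_lit 2047) (nat_lit 5) (nat_lit 31) (nat_lit 1) (nat_lit 18) (nat_lit 32) (nat_lit 0x820) (nat_lit 1) (nat_lit 1) RT (nat_lit 16) J0 (nat_lit 16) = true := by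
  decide +kernel

theorem r0 : P.RowsOK 16 32 := chk_sound P _ _ _ J0 _ _ (by decide +kernel) c0

theorem index.{u} : IndexLe.{u} 1 R W 2 :=
  indexLe_of_cert P HT (by decide +kernel)
    (show P.RowsOK 16 32 from r0)

end Tc5

theorem up_5 : CardLe (genW s [[0]]) 2 :=
  CardLe.tc (V' := []) (n := 2) (m := 1) [0] Tc5.index pres.sat (by decide +kernel) (by decide +kernel) (by decide +kernel) (cardLe_nil s)

namespace Tc4

noncomputable def t0 : Tr := (Tr.leaf (nat_lit 0xfffffffff000fffffffff000fffffffff000fffffffff000fffffffff000fffffffff000fffffffff000fffffffff000fffffffff000fffffffff000fffffffff000fffffffff000fffffffff811fff052011430fff010032000fff031030))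

noncomputable def T : Tr := t0

def RT : List (List (List Nat)) := [
  [[nat_lit 3]],
  [[nat_lit 0, nat_lit 1, nat_lit 0, nat_lit 1, nat_lit 0]],
  []]

def HT : List (List (Nat × Nat × Nat)) := [
  [(2, 0, 0)],
  [(0, 2, 0)],
  []]

def R : List (List Nat) :=
  [[0, 0],
   [1, 1],
   [0, 1, 0, 1, 0, 1]]

def W : List (List Nat) := [[0]]

noncomputable def P : Par := ⟨T, (nat_lit 4), (nat_lit 15), (nat_lit 48), (nat_lit 12), (nat_lit 4095), (nat_lit 5), (nat_lit 31), (nat_lit 2), (nat_lit 19), (nat_lit 32), (nat_lit 0x18820), RT⟩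

noncomputable def J0 : List Nat := [
  nat_lit 0x134124661111111111111111111111111111111111111111]

theorem c0 : chk T (nat_lit 4) (nat_lit 15) (nat_lit 48) (nat_lit 12) (nat_lit 4095) (nat_lit 5) (nat_lit 31) (nat_lit 2) (nat_lit 19) (nat_lit 32) (nat_lit 0x18820) (nat_lit 2) (nat_lit 3) RT (nat_lit 16) J0 (nat_lit 16) = true := by
  decide +kernel

theorem r0 : P.RowsOK 16 32 := chk_sound P _ _ _ J0 _ _ (by decide +kernel) c0

theorem index.{u} : IndexLe.{u} 2 R W 3 :=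
  indexLe_of_cert P HT (by decide +kernel)
    (show P.RowsOK 16 32 from r0)

end Tc4

theorem up_4 : CardLe (genW s [[0], [1]]) 6 :=
  CardLe.tc (V' := [[0]]) (n := 3) (m := 2) [0, 1] Tc4.index pres.sat (by decide +kernel) (by decide +kernel) (by decide +kernel) up_5

namespace Tc3

noncomputable def t0 : Tr := (Tr.leaf (nat_lit 0xffffffffffff000ffffffffffff000ffffffffffff000ffffffffffff000ffffffffffff000ffffffffffff000ffffffffffff000ffffffffffff000ffffffffffff000ffffffffffff000ffffffffffff000ffffffffffffc12fff073073012831fff052011033450fff010032051000fff031030030))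

noncomputable def T : Tr := t0

def RT : List (List (List Nat)) := [
  [[nat_lit 4],
   [nat_lit 2, nat_lit 0, nat_lit 2]],
  [[nat_lit 0, nat_lit 1, nat_lit 0, nat_lit 1, nat_lit 0],
   [nat_lit 4]],
  [[nat_lit 1, nat_lit 2, nat_lit 1, nat_lit 2, nat_lit 1],
   [nat_lit 0, nat_lit 2, nat_lit 0]],
  []]

def HT : List (List (Nat × Nat × Nat)) := [
  [(2, 0, 0), (0, 4, 1)],
  [(0, 3, 0), (2, 1, 0)],
  [(0, 5, 0), (0, 4, 0)],
  []]

def R : List (List Nat) :=
  [[0, 0],
   [1, 1],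
   [2, 2],
   [0, 1, 0, 1, 0, 1],
   [0, 2, 0, 2],
   [1, 2, 1, 2, 1, 2]]

def W : List (List Nat) := [[0],
   [1]]

noncomputable def P : Par := ⟨T, (nat_lit 4), (nat_lit 15), (nat_lit 60), (nat_lit 12), (nat_lit 4095), (nat_lit 5), (nat_lit 31), (nat_lit 3), (nat_lit 20), (nat_lit 32), (nat_lit 0x418820), RT⟩

noncomputable def J0 : List Nat := [
  nat_lit 0x134001741c912619b1111111111111111111111111111111111111111111111111]

theorem c0 : chk T (nat_lit 4) (nat_lit 15) (nat_lit 60) (nat_lit 12) (nat_lit 4095) (nat_lit 5) (nat_lit 31) (nat_lit 3) (nat_lit 20) (nat_lit 32) (nat_lit 0x418820) (nat_lit 2) (nat_lit 3) RT (nat_lit 16) J0 (nat_lit 16) = true := by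
  decide +kernel

theorem r0 : P.RowsOK 16 32 := chk_sound P _ _ _ J0 _ _ (by decide +kernel) c0

theorem index.{u} : IndexLe.{u} 3 R W 4 :=
  indexLe_of_cert P HT (by decide +kernel)
    (show P.RowsOK 16 32 from r0)

end Tc3

theorem up_3 : CardLe (genW s [[0], [1], [2]]) 24 :=
  CardLe.tc (V' := [[0], [1]]) (n := 4) (m := 6) [0, 1, 2] Tc3.index pres.sat (by decide +kernel) (by decide +kernel) (by decide +kernel) up_4

namespace Tc2

noncomputable def t0 : Tr := (Tr.leaf (nat_lit 0x7fffffffffffffffc001ffffffffffffffff0007fffffffffffffffc001ffffffffffffffff0007fffffffffffffffc001ffffffffffffffff0007fffffffffffffffc001ffffffffffffffff0007fffffffffffffffc001ffffffffffffffff0007fffffffffffffffe027fff04a02501280136197ffc0e607300900d10a3fff02900440660722387ffc0200320288144001fff01880c0060030))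

noncomputable def T : Tr := t0

def RT : List (List (List Nat)) := [
  [[nat_lit 5],
   [nat_lit 3, nat_lit 0, nat_lit 3],
   [nat_lit 2, nat_lit 0, nat_lit 2]],
  [[nat_lit 0, nat_lit 1, nat_lit 0, nat_lit 1, nat_lit 0],
   [nat_lit 5],
   [nat_lit 3, nat_lit 1, nat_lit 3]],
  [[nat_lit 1, nat_lit 2, nat_lit 1, nat_lit 2, nat_lit 1],
   [nat_lit 0, nat_lit 2, nat_lit 0],
   [nat_lit 5]],
  [[nat_lit 2, nat_lit 3, nat_lit 2, nat_lit 3, nat_lit 2],
   [nat_lit 1, nat_lit 3, nat_lit 1],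
   [nat_lit 0, nat_lit 3, nat_lit 0]],
  []]

def HT : List (List (Nat × Nat × Nat)) := [
  [(2, 0, 0), (0, 6, 1), (0, 5, 1)],
  [(0, 4, 0), (2, 1, 0), (0, 8, 1)],
  [(0, 7, 0), (0, 5, 0), (2, 2, 0)],
  [(0, 9, 0), (0, 8, 0), (0, 6, 0)],
  []]

def R : List (List Nat) :=
  [[0, 0],
   [1, 1],
   [2, 2],
   [3, 3],
   [0, 1, 0, 1, 0, 1],
   [0, 2, 0, 2],
   [0, 3, 0, 3],
   [1, 2, 1, 2, 1, 2],
   [1, 3, 1, 3],
   [2, 3, 2, 3, 2, 3]]

def W : List (List Nat) := [[0],
   [1],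
   [2]]

noncomputable def P : Par := ⟨T, (nat_lit 4), (nat_lit 15), (nat_lit 78), (nat_lit 13), (nat_lit 8191), (nat_lit 5), (nat_lit 31), (nat_lit 4), (nat_lit 21), (nat_lit 32), (nat_lit 0xa418820), RT⟩

noncomputable def J0 : List Nat := [
  nat_lit 0x8c800272000ac80b8221822822298629c0842108421084210842108421084210842108421084210842108421084210842108421]

theorem c0 : chk T (nat_lit 4) (nat_lit 15) (nat_lit 78) (nat_lit 13) (nat_lit 8191) (nat_lit 5) (nat_lit 31) (nat_lit 4) (nat_lit 21) (nat_lit 32) (nat_lit 0xa418820) (nat_lit 3) (nat_lit 7) RT (nat_lit 16) J0 (nat_lit 16) = true := by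
  decide +kernel

theorem r0 : P.RowsOK 16 32 := chk_sound P _ _ _ J0 _ _ (by decide +kernel) c0

theorem index.{u} : IndexLe.{u} 4 R W 5 :=
  indexLe_of_cert P HT (by decide +kernel)
    (show P.RowsOK 16 32 from r0)

end Tc2

theorem up_2 : CardLe (genW s [[0], [1], [2], [3]]) 120 :=
  CardLe.tc (V' := [[0], [1], [2]]) (n := 5) (m := 24) [0, 1, 2, 3] Tc2.index pres.sat (by decide +kernel) (by decide +kernel) (by decide +kernel) up_3

namespace Tc1

noncomputable def t0 : Tr := (Tr.leaf (nat_lit 0x7ffffffffffffffffffe000fffffffffffffffffffc001fffffffffffffffffff8003fffffffffffffffffff0007ffffffffffffffffffe000fffffffffffffffffffc001fffffffffffffffffff8003fffffffffffffffffff0007ffffffffffffffffffe000fffffffffffffffffffe829fff05a82d416a0b500a40cfffe09404a02500260356297ffc0e607300900d0126871fff814802203303901c8921fff00800c80a20510288003ffe03101800c0060030))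

noncomputable def T : Tr := t0

def RT : List (List (List Nat)) := [
  [[nat_lit 6],
   [nat_lit 4, nat_lit 0, nat_lit 4],
   [nat_lit 3, nat_lit 0, nat_lit 3],
   [nat_lit 2, nat_lit 0, nat_lit 2]],
  [[nat_lit 0, nat_lit 1, nat_lit 0, nat_lit 1, nat_lit 0],
   [nat_lit 6],
   [nat_lit 4, nat_lit 1, nat_lit 4],
   [nat_lit 3, nat_lit 1, nat_lit 3]],
  [[nat_lit 1, nat_lit 2, nat_lit 1, nat_lit 2, nat_lit 1],
   [nat_lit 0, nat_lit 2, nat_lit 0],
   [nat_lit 6],
   [nat_lit 4, nat_lit 2, nat_lit 4]],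
  [[nat_lit 2, nat_lit 3, nat_lit 2, nat_lit 3, nat_lit 2],
   [nat_lit 1, nat_lit 3, nat_lit 1],
   [nat_lit 0, nat_lit 3, nat_lit 0],
   [nat_lit 6]],
  [[nat_lit 3, nat_lit 4, nat_lit 3, nat_lit 4, nat_lit 3],
   [nat_lit 2, nat_lit 4, nat_lit 2],
   [nat_lit 1, nat_lit 4, nat_lit 1],
   [nat_lit 0, nat_lit 4, nat_lit 0]],
  []]

def HT : List (List (Nat × Nat × Nat)) := [
  [(2, 0, 0), (0, 8, 1), (0, 7, 1), (0, 6, 1)],
  [(0, 5, 0), (2, 1, 0), (0, 11, 1), (0, 10, 1)],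
  [(0, 9, 0), (0, 6, 0), (2, 2, 0), (0, 13, 1)],
  [(0, 12, 0), (0, 10, 0), (0, 7, 0), (2, 3, 0)],
  [(0, 14, 0), (0, 13, 0), (0, 11, 0), (0, 8, 0)],
  []]

def R : List (List Nat) :=
  [[0, 0],
   [1, 1],
   [2, 2],
   [3, 3],
   [4, 4],
   [0, 1, 0, 1, 0, 1],
   [0, 2, 0, 2],
   [0, 3, 0, 3],
   [0, 4, 0, 4],
   [1, 2, 1, 2, 1, 2],
   [1, 3, 1, 3],
   [1, 4, 1, 4],
   [2, 3, 2, 3, 2, 3],
   [2, 4, 2, 4],
   [3, 4, 3, 4, 3, 4]]

def W : List (List Nat) := [[0],
   [1],
   [2],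
   [3]]

noncomputable def P : Par := ⟨T, (nat_lit 4), (nat_lit 15), (nat_lit 91), (nat_lit 13), (nat_lit 8191), (nat_lit 5), (nat_lit 31), (nat_lit 5), (nat_lit 22), (nat_lit 32), (nat_lit 0x18a418820), RT⟩

noncomputable def J0 : List Nat := [
  nat_lit 0x1190004e4001590005e405ca22194450688a61114e0629ca1084210842108421084210842108421084210842108421084210842108421084210842108421]

theorem c0 : chk T (nat_lit 4) (nat_lit 15) (nat_lit 91) (nat_lit 13) (nat_lit 8191) (nat_lit 5) (nat_lit 31) (nat_lit 5) (nat_lit 22) (nat_lit 32) (nat_lit 0x18a418820) (nat_lit 3) (nat_lit 7) RT (nat_lit 16) J0 (nat_lit 16) = true := by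
  decide +kernel

theorem r0 : P.RowsOK 16 32 := chk_sound P _ _ _ J0 _ _ (by decide +kernel) c0

theorem index.{u} : IndexLe.{u} 5 R W 6 :=
  indexLe_of_cert P HT (by decide +kernel)
    (show P.RowsOK 16 32 from r0)

end Tc1

theorem up_1 : CardLe (genW s [[0], [1], [2], [3], [4]]) 720 :=
  CardLe.tc (V' := [[0], [1], [2], [3]]) (n := 6) (m := 120) [0, 1, 2, 3, 4] Tc1.index pres.sat (by decide +kernel) (by decide +kernel) (by decide +kernel) up_2

namespace Tc0

noncomputable def t0 : Tr := (Tr.leaf (nat_lit 0x7ffffffffffffffffffffff0007ffffffffffffffffffffff0007ffffffffffffffffffffff0007ffffffffffffffffffffff0007ffffffffffffffffffffff0007ffffffffffffffffffffff0007ffffffffffffffffffffff0007ffffffffffffffffffffff0007ffffffffffffffffffffffc0afffc1ac0d606b03581ac015a1a7ffc16a0b505a82d4028036829fffc12809404a004c06a0b46397ffc0e607300900d0126093448fffc0a401101981c80e40722587ffc02003202881440a20510007ffc06203001800c0060030))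

noncomputable def T : Tr := t0

def RT : List (List (List Nat)) := [
  [[nat_lit 7],
   [nat_lit 5, nat_lit 0, nat_lit 5],
   [nat_lit 4, nat_lit 0, nat_lit 4],
   [nat_lit 3, nat_lit 0, nat_lit 3],
   [nat_lit 2, nat_lit 0, nat_lit 2]],
  [[nat_lit 0, nat_lit 1, nat_lit 0, nat_lit 1, nat_lit 0],
   [nat_lit 7],
   [nat_lit 5, nat_lit 1, nat_lit 5],
   [nat_lit 4, nat_lit 1, nat_lit 4],
   [nat_lit 3, nat_lit 1, nat_lit 3]],
  [[nat_lit 1, nat_lit 2, nat_lit 1, nat_lit 2, nat_lit 1],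
   [nat_lit 0, nat_lit 2, nat_lit 0],
   [nat_lit 7],
   [nat_lit 5, nat_lit 2, nat_lit 5],
   [nat_lit 4, nat_lit 2, nat_lit 4]],
  [[nat_lit 2, nat_lit 3, nat_lit 2, nat_lit 3, nat_lit 2],
   [nat_lit 1, nat_lit 3, nat_lit 1],
   [nat_lit 0, nat_lit 3, nat_lit 0],
   [nat_lit 7],
   [nat_lit 5, nat_lit 3, nat_lit 5]],
  [[nat_lit 3, nat_lit 4, nat_lit 3, nat_lit 4, nat_lit 3],
   [nat_lit 2, nat_lit 4, nat_lit 2],
   [nat_lit 1, nat_lit 4, nat_lit 1],
   [nat_lit 0, nat_lit 4, nat_lit 0],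
   [nat_lit 7]],
  [[nat_lit 4, nat_lit 5, nat_lit 4, nat_lit 5, nat_lit 4],
   [nat_lit 3, nat_lit 5, nat_lit 3],
   [nat_lit 2, nat_lit 5, nat_lit 2],
   [nat_lit 1, nat_lit 5, nat_lit 1],
   [nat_lit 0, nat_lit 5, nat_lit 0]],
  []]

def HT : List (List (Nat × Nat × Nat)) := [
  [(2, 0, 0), (0, 10, 1), (0, 9, 1), (0, 8, 1), (0, 7, 1)],
  [(0, 6, 0), (2, 1, 0), (0, 14, 1), (0, 13, 1), (0, 12, 1)],
  [(0, 11, 0), (0, 7, 0), (2, 2, 0), (0, 17, 1), (0, 16, 1)],
  [(0, 15, 0), (0, 12, 0), (0, 8, 0), (2, 3, 0), (0, 19, 1)],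
  [(0, 18, 0), (0, 16, 0), (0, 13, 0), (0, 9, 0), (2, 4, 0)],
  [(0, 20, 0), (0, 19, 0), (0, 17, 0), (0, 14, 0), (0, 10, 0)],
  []]

def R : List (List Nat) :=
  [[0, 0],
   [1, 1],
   [2, 2],
   [3, 3],
   [4, 4],
   [5, 5],
   [0, 1, 0, 1, 0, 1],
   [0, 2, 0, 2],
   [0, 3, 0, 3],
   [0, 4, 0, 4],
   [0, 5, 0, 5],
   [1, 2, 1, 2, 1, 2],
   [1, 3, 1, 3],
   [1, 4, 1, 4],
   [1, 5, 1, 5],
   [2, 3, 2, 3, 2, 3],
   [2, 4, 2, 4],
   [2, 5, 2, 5],
   [3, 4, 3, 4, 3, 4],
   [3, 5, 3, 5],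
   [4, 5, 4, 5, 4, 5]]

def W : List (List Nat) := [[0],
   [1],
   [2],
   [3],
   [4]]

noncomputable def P : Par := ⟨T, (nat_lit 4), (nat_lit 15), (nat_lit 104), (nat_lit 13), (nat_lit 8191), (nat_lit 5), (nat_lit 31), (nat_lit 6), (nat_lit 23), (nat_lit 32), (nat_lit 0x398a418820), RT⟩

noncomputable def J0 : List Nat := [
  nat_lit 0x2320009c8002b2000bc80033202e5c2219708a0dc2298708a702229ca18a72e08421084210842108421084210842108421084210842108421084210842108421084210842108421]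

theorem c0 : chk T (nat_lit 4) (nat_lit 15) (nat_lit 104) (nat_lit 13) (nat_lit 8191) (nat_lit 5) (nat_lit 31) (nat_lit 6) (nat_lit 23) (nat_lit 32) (nat_lit 0x398a418820) (nat_lit 3) (nat_lit 7) RT (nat_lit 16) J0 (nat_lit 16) = true := by
  decide +kernel

theorem r0 : P.RowsOK 16 32 := chk_sound P _ _ _ J0 _ _ (by decide +kernel) c0

theorem index.{u} : IndexLe.{u} 6 R W 7 :=
  indexLe_of_cert P HT (by decide +kernel)
    (show P.RowsOK 16 32 from r0)

end Tc0

theorem up : CardLe (genW s (letters 6)) 5040 :=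
  CardLe.tc (V' := [[0], [1], [2], [3], [4]]) (n := 7) (m := 720) [0, 1, 2, 3, 4, 5] Tc0.index pres.sat (by decide +kernel) (by decide +kernel) (by decide +kernel) up_1

theorem der.{u} : Derives.{u} R D := by
  obtain ⟨phi, rep⟩ := pres.rep ok sat
  exact derives_of_pres hR (by decide +kernel) (rep.sat_of_inj (rep.card_eq up low).2.2 (by decide +kernel) satD)

end Cfsg.Agent.Comp.F3.S7
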